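import Cfsg.Agent.H607.R2.WL

/-!
# S3509, R2: the torus with `1 ± θ³ + θ⁶ = 0`, lattice data (helper808)

`u ∈ W(E₆)` with `1 + u³ + u⁶ = 0`.  `S` : the roots of the three orthogonal subsystems `P 0, P 1, P 2` of type `A₂` moved
cyclically by `u` (18 roots).  Every root outside `S` generates the lattice under `u`, every root of `S` generates a subgroup
containing `S` and three times the lattice.
-/

set_option autoImplicit false
set_option linter.unusedSectionVars false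

namespace Cfsg.Agent.H808.R2

open CoxeterSystem Cfsg Cfsg.Lie Cfsg.Lie.ChevalleyDatum
open Cfsg.Agent.ChevalleyStructure Cfsg.Agent.ChevalleyStructure.Elts Cfsg.Agent.ChevalleyStructure.CoxeterGeom
  Cfsg.Agent.ChevalleyStructure.CoxeterGeomTypes Cfsg.Agent.ChevalleyStructure.NPerm
open Cfsg.Agent.Tits.Roots Cfsg.Agent.Tits.Core Cfsg.Agent.Nodes Cfsg.Agent.Nodes.Reps Cfsg.Agent.Nodes.RGDChev
  Cfsg.Agent.Nodes.SubComb

/-- the lattice data of an element with `1 + u³ + u⁶ = 0` -/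
structure NineLat {M : CoxeterMatrix (Fin 6)} (hp : IsType chevE6 6 M) {W : Type*} [Group W] (cs : CoxeterSystem M W)
    (u : W) where
  S : Set (Fin 6 → ℤ)
  P : Fin 3 → Set (Fin 6 → ℤ)
  root : ∀ a ∈ S, IsRoot cs hp.isCartan a
  neg : ∀ a ∈ S, -a ∈ S
  card : S.ncard = 18
  mem : ∀ a, a ∈ S ↔ ∃ i, a ∈ P i
  disj : ∀ i a, a ∈ P i → a ∉ P (i + 1)
  act : ∀ i a, a ∈ P i → rep cs hp.isCartan u a ∈ P (i + 1)
  negP : ∀ i, ∀ a ∈ P i, -a ∈ P i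
  refl : ∀ (w : W) (j : Fin 6), rep cs hp.isCartan w (sr j) ∈ S → ∀ i, ∀ a ∈ P i,
    rep cs hp.isCartan (rfl' cs w j) a ∈ P i
  out : ∃ a, IsRoot cs hp.isCartan a ∧ a ∉ S
  gen : ∀ B : AddSubgroup (Fin 6 → ℤ), (∀ x ∈ B, rep cs hp.isCartan u x ∈ B) →
    ∀ x, IsRoot cs hp.isCartan x → x ∉ S → x ∈ B → B = ⊤
  gen3 : ∀ B : AddSubgroup (Fin 6 → ℤ), (∀ x ∈ B, rep cs hp.isCartan u x ∈ B) →
    ∀ x ∈ S, x ∈ B → (∀ a ∈ S, a ∈ B) ∧ ∀ y, (3 : ℤ) • y ∈ B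

end Cfsg.Agent.H808.R2
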