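import Cfsg.Agent.H607.R2.Main
import Cfsg.Agent.H808.R2.NineDef
import Cfsg.Agent.H448.TorB.Card

/-!
# S3509, R2: the torus with `1 ± θ³ + θ⁶ = 0`, members with roots (helper808)
-/

set_option autoImplicit false
set_option linter.unusedSectionVars false
open Cfsg

namespace Cfsg.Agent.H808.R2

open CoxeterSystem Cfsg Cfsg.Lie Cfsg.Lie.ChevalleyDatum
open Cfsg.Agent.ChevalleyStructure Cfsg.Agent.ChevalleyStructure.Elts Cfsg.Agent.ChevalleyStructure.CoxeterGeom
  Cfsg.Agent.ChevalleyStructure.CoxeterGeomTypes Cfsg.Agent.ChevalleyStructure.NPerm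
open Cfsg.Agent.Tits.Roots Cfsg.Agent.Tits.Core Cfsg.Agent.Nodes Cfsg.Agent.Nodes.Reps Cfsg.Agent.Nodes.BNOf
  Cfsg.Agent.Nodes.RGDChev
open Cfsg.Agent.Nodes.SubComb
open Cfsg.Agent.KFacts.RgdField Cfsg.Agent.KFacts.RgdChevCoord
open Cfsg.Agent.BpExc Cfsg.Agent.BpExc.TorCent Cfsg.Agent.BpExc.TorChev Cfsg.Agent.BpExc.Pair Cfsg.Agent.BpExc.LangFr
open Cfsg.Agent.H469.Exc Cfsg.Agent.H316.U6 Cfsg.Agent.H169.RG Cfsg.Agent.H441.RG
open MulAction Cfsg.Agent.H106.RC Cfsg.Agent.H368.RG Cfsg.Agent.H873.RG Cfsg.Agent.H380.RC Cfsg.Agent.H694.RG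
open Cfsg.Agent.H129.TorusChar
open Cfsg.Agent.H607.R2

section Lat

variable {M : CoxeterMatrix (Fin 6)} {hp : IsType chevE6 6 M} {W : Type*} [Group W] {cs : CoxeterSystem M W} {u : W}

/-- `u` preserves `S` -/
theorem NineLat.actS (L : NineLat hp cs u) {a : Fin 6 → ℤ} (ha : a ∈ L.S) : rep cs hp.isCartan u a ∈ L.S := by
  obtain ⟨i, hi⟩ := (L.mem a).1 ha
  exact (L.mem _).2 ⟨_, L.act i a hi⟩

/-- the group generated by the reflections of `S` preserves the components -/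
theorem NineLat.ws (L : NineLat hp cs u) {v : W} (hv : v ∈ WS cs hp.isCartan L.S) (i : Fin 3) :
    ∀ a ∈ L.P i, rep cs hp.isCartan v a ∈ L.P i := by
  induction hv using Subgroup.closure_induction_right with
  | one =>
    intro a ha
    rwa [map_one, Module.End.one_apply]
  | mul_right x y _ hy ih =>
    intro a ha
    obtain ⟨w, j, rfl, hw⟩ := hy
    rw [rep_mul_apply]
    exact ih _ (L.refl w j hw i a ha)
  | mul_inv_cancel x y _ hy ih =>
    intro a ha
    obtain ⟨w, j, rfl, hw⟩ := hy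
    have e : (rfl' cs w j)⁻¹ = rfl' cs w j := by
      rw [rfl', mul_inv_rev, mul_inv_rev, inv_inv, cs.inv_simple, mul_assoc]
    rw [e, rep_mul_apply]
    exact ih _ (L.refl w j hw i a ha)

theorem NineLat.reflCl (L : NineLat hp cs u) : ReflCl cs hp.isCartan L.S := by
  intro w j hw a ha
  obtain ⟨i, hi⟩ := (L.mem a).1 ha
  exact (L.mem _).2 ⟨i, L.refl w j hw i a hi⟩

end Lat

section Ker

variable {D : ChevalleyDatum} {l : ℕ} {M : CoxeterMatrix (Fin l)} {hp : IsType D l M} {k : Type*} [Field k]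

variable (hp) in
/-- the characters trivial on `t` -/
noncomputable def ker {t : ↥(D.group k)} (ht : t ∈ TT D k) : AddSubgroup (Fin l → ℤ) where
  carrier := {x | cX hp t x = 1}
  zero_mem' := (isMC_cX hp ht).zero
  add_mem' := fun {a b} ha hb => by
    show cX hp t (a + b) = 1
    rw [(isMC_cX hp ht).add, show cX hp t a = 1 from ha, show cX hp t b = 1 from hb, one_mul]
  neg_mem' := fun {a} ha => by
    show cX hp t (-a) = 1
    rw [(isMC_cX hp ht).neg, show cX hp t a = 1 from ha, inv_one]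

theorem mem_ker {t : ↥(D.group k)} (ht : t ∈ TT D k) (x : Fin l → ℤ) : x ∈ ker hp ht ↔ cX hp t x = 1 := Iff.rfl

theorem eq_one_of_ker {t : ↥(D.group k)} (ht : t ∈ TT D k) (h : ker hp ht = ⊤) : t = 1 := by
  refine cX_inj hp ht (one_mem _) fun i => ?_
  have h1 : sr i ∈ ker hp ht := by rw [h]; exact AddSubgroup.mem_top _
  rw [mem_ker] at h1
  rw [h1, cX_one]

end Ker

section U

variable {M : CoxeterMatrix (Fin 6)} (hp : IsType chevE6 6 M)

/-- `-1` is not one of the 25 classes -/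
theorem chk_neg : ((List.range 25).all fun i => (List.range 6).any fun k =>
    !(H378.Eng.veq (H378.Eng.lc (H378.Eng.bv k) (H378.E6Dat.dat.R i)) (H378.Eng.vsm (-1) (H378.Eng.bv k)))) = true := by
  decide +kernel

theorem chk_len : ((List.range 25).all fun i => decide ((H378.E6Dat.dat.R i).length ≤ 6) &&
    (List.range 6).all fun k => decide ((H378.Eng.lc (H378.Eng.bv k) (H378.E6Dat.dat.R i)).length ≤ 6) &&
      decide ((H378.Eng.vsm (-1) (H378.Eng.bv k)).length ≤ 6)) = true := by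
  decide +kernel

/-- `-1 ∉ W(E₆)` -/
theorem not_neg {W : Type*} [Group W] (cs : CoxeterSystem M W) (w : W) (h : ∀ x, rep cs hp.isCartan w x = -x) : False := by
  obtain ⟨v, i, hi, hv⟩ := H378.Eng.exists_conj cs hp.isCartan (T := H378.E6Dat.dat) rfl H378.WL.E6.row H378.E6Dat.chkR
    H378.E6Dat.chkC w
  have hi' : i < 25 := hi
  have h1 := chk_neg
  rw [List.all_eq_true] at h1
  have h2 := h1 i (List.mem_range.2 hi')
  rw [List.any_eq_true] at h2
  obtain ⟨k, hk, h3⟩ := h2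
  have h4 := chk_len
  rw [List.all_eq_true] at h4
  have h5 := h4 i (List.mem_range.2 hi')
  rw [Bool.and_eq_true, List.all_eq_true, decide_eq_true_eq] at h5
  have h6 := h5.2 k hk
  rw [Bool.and_eq_true, decide_eq_true_eq, decide_eq_true_eq] at h6
  have h7 : H378.Eng.veq (H378.Eng.lc (H378.Eng.bv k) (H378.E6Dat.dat.R i)) (H378.Eng.vsm (-1) (H378.Eng.bv k)) = true := by
    refine H378.Eng.veq_of_toF (l := 6) h6.1 h6.2 ?_
    have e := hv (H378.Eng.toF 6 (H378.Eng.bv k))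
    rw [h, map_neg, rep_apply_inv] at e
    rw [← H378.Eng.lin_toF h5.1, ← e, H378.Eng.toF_vsm, neg_one_smul]
  rw [h7] at h3
  exact absurd h3 (by decide)

variable {hp} {r q : ℕ} [hr : Fact r.Prime] {K₀ : Type} [Group K₀]

/-- `θ = ± rep u` -/
theorem exists_u (m : MData hp r q K₀) (w : M.Group) {θ : (Fin 6 → ℤ) ≃+ (Fin 6 → ℤ)}
    (hθ : ∀ v, θ v = rep M.toCoxeterSystem hp.isCartan w (m.g v))
    (h9 : (∀ a, a + θ (θ (θ a)) + θ (θ (θ (θ (θ (θ a))))) = 0) ∨
      (∀ a, a - θ (θ (θ a)) + θ (θ (θ (θ (θ (θ a))))) = 0)) :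
    ∃ u : M.Group, Nine hp M.toCoxeterSystem u ∧ ((∀ x, θ x = rep M.toCoxeterSystem hp.isCartan u x) ∨
      ∀ x, θ x = -rep M.toCoxeterSystem hp.isCartan u x) := by
  have hr' : ∀ a, IsRoot M.toCoxeterSystem hp.isCartan (m.g a) ↔ IsRoot M.toCoxeterSystem hp.isCartan a := m.fr.root
  -- `x - u³ x + u⁶ x = 0` is impossible
  have key : ∀ u : M.Group, (∀ a, a - rep M.toCoxeterSystem hp.isCartan (u ^ 3) a +
      rep M.toCoxeterSystem hp.isCartan (u ^ 6) a = 0) → False := by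
    intro u hu
    refine not_neg hp M.toCoxeterSystem (u ^ 9) fun x => ?_
    have h1 := hu x
    have h2 := hu (rep M.toCoxeterSystem hp.isCartan (u ^ 3) x)
    rw [← rep_mul_apply, ← rep_mul_apply, ← pow_add, ← pow_add, show 3 + 3 = 6 from rfl, show 6 + 3 = 9 from rfl] at h2
    have h3 : rep M.toCoxeterSystem hp.isCartan (u ^ 9) x = -x + (x - rep M.toCoxeterSystem hp.isCartan (u ^ 3) x +
      rep M.toCoxeterSystem hp.isCartan (u ^ 6) x) + (rep M.toCoxeterSystem hp.isCartan (u ^ 3) x -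
        rep M.toCoxeterSystem hp.isCartan (u ^ 6) x + rep M.toCoxeterSystem hp.isCartan (u ^ 9) x) := by
      abel
    rw [h3, h1, h2, add_zero, add_zero]
  have hpos : ∀ u : M.Group, (∀ x, θ x = rep M.toCoxeterSystem hp.isCartan u x) → Nine hp M.toCoxeterSystem u := by
    intro u hu
    rcases h9 with h | h
    · intro a
      have h1 := h a
      simp only [hu] at h1
      simp only [pow_succ, pow_zero, one_mul, rep_mul_apply]
      exact h1
    · exfalso
      refine key u fun a => ?_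
      have h1 := h a
      simp only [hu] at h1
      simp only [pow_succ, pow_zero, one_mul, rep_mul_apply]
      exact h1
  have hneg : ∀ u : M.Group, (∀ x, θ x = -rep M.toCoxeterSystem hp.isCartan u x) → Nine hp M.toCoxeterSystem u := by
    intro u hu
    rcases h9 with h | h
    · exfalso
      refine key u fun a => ?_
      have h1 := h a
      simp only [hu, map_neg, neg_neg] at h1
      simp only [pow_succ, pow_zero, one_mul, rep_mul_apply]
      rw [← sub_eq_add_neg] at h1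
      exact h1
    · intro a
      have h1 := h a
      simp only [hu, map_neg, neg_neg] at h1
      simp only [pow_succ, pow_zero, one_mul, rep_mul_apply]
      rw [sub_neg_eq_add] at h1
      exact h1
  rcases perm_cases hp M.toCoxeterSystem (π := m.π) (g := fun v => m.g v) (fun v i => m.perm v i) hr' with h | h
  · have hg : ∀ v, θ v = rep M.toCoxeterSystem hp.isCartan w v := by
      intro v
      rw [hθ]
      congr 1
      funext i
      rw [m.perm, h]
      rfl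
    exact ⟨w, hpos w hg, Or.inl hg⟩
  · obtain ⟨w₀, h0⟩ := H378.WL.E6.exists_w0 hp M.toCoxeterSystem
    have h1 : ∀ v, m.g v = -rep M.toCoxeterSystem hp.isCartan w₀ v := by
      intro v
      funext i
      rw [m.perm, h, Pi.neg_apply, h0, neg_neg]
    have h2 : ∀ v, θ v = -rep M.toCoxeterSystem hp.isCartan (w * w₀) v := by
      intro v
      rw [hθ, h1, map_neg, rep_mul_apply]
    exact ⟨_, hneg _ h2, Or.inr h2⟩

end U

section Main

variable {M : CoxeterMatrix (Fin 6)} {hp : IsType chevE6 6 M} {r q : ℕ} [hr : Fact r.Prime] {K₀ : Type} [Group K₀]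
  {m : MData hp r q K₀} {g : ↥(chevE6.group (KK r))}

/-- the kernel of a fixed element of the torus is `θ`-stable -/
theorem ker_theta (f : TorForm m g) {t : ↥(chevE6.group (KK r))} (ht : t ∈ TT chevE6 (KK r)) (hα : f.α t = t)
    {x : Fin 6 → ℤ} (hx : x ∈ ker hp ht) : f.θ x ∈ ker hp ht := by
  have h1 := cX_sigma hp M.toCoxeterSystem f.frob f.fr ht x
  have h2 : (MulAut.conj f.n * m.σ) t = t := hα
  rw [h2, show cX hp t x = 1 from hx, one_pow] at h1
  exact h1

/-- **the form of a member with roots** -/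
theorem exists_form3 (f : TorForm m g) {u : M.Group} (hu : (∀ x, f.θ x = rep M.toCoxeterSystem hp.isCartan u x) ∨
      ∀ x, f.θ x = -rep M.toCoxeterSystem hp.isCartan u x) (L : NineLat hp M.toCoxeterSystem u)
    {t y : ↥(chevE6.group (KK r))} (ht : t ∈ TT chevE6 (KK r)) (hα : f.α t = t) (ht1 : t ≠ 1)
    (hne : (Sx M.toCoxeterSystem hp.isCartan (ch hp) t).Nonempty) (hy : y = f.z * t * f.z⁻¹) :
    t ^ 3 = 1 ∧ ∃ f' : TorForm m y,
      Nat.card ↥(Sx M.toCoxeterSystem hp.isCartan (ch hp) f'.t) = 18 ∧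
      ∀ β ∈ Sx M.toCoxeterSystem hp.isCartan (ch hp) f'.t, f'.θ β ≠ β := by
  have := finite_W hp M.toCoxeterSystem
  -- the action of `θ` on the components
  have hact : ∀ i a, a ∈ L.P i → f.θ a ∈ L.P (i + 1) := by
    intro i a ha
    rcases hu with h | h
    · rw [h]
      exact L.act i a ha
    · rw [h]
      exact L.negP _ _ (L.act i a ha)
  have hker : ∀ x ∈ ker hp ht, rep M.toCoxeterSystem hp.isCartan u x ∈ ker hp ht := by
    intro x hx
    have h1 := ker_theta f ht hα hx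
    rcases hu with h | h
    · rwa [h] at h1
    · rw [h] at h1
      have h2 := (ker hp ht).neg_mem h1
      rwa [neg_neg] at h2
  have hSx : ∀ a, a ∈ Sx M.toCoxeterSystem hp.isCartan (ch hp) t ↔
      IsRoot M.toCoxeterSystem hp.isCartan a ∧ a ∈ ker hp ht := by
    intro a
    constructor
    · intro ha
      exact ⟨ha.1, by rw [mem_ker, cX_root hp M.toCoxeterSystem ht ha.1]; exact ha.2⟩
    · intro ha
      exact ⟨ha.1, by rw [← cX_root hp M.toCoxeterSystem ht ha.1]; exact ha.2⟩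
  have hout : ∀ a ∈ Sx M.toCoxeterSystem hp.isCartan (ch hp) t, a ∈ L.S := by
    intro a ha
    by_contra hcon
    exact ht1 (eq_one_of_ker ht (L.gen _ hker a ((hSx a).1 ha).1 hcon ((hSx a).1 ha).2))
  obtain ⟨a₀, ha₀⟩ := hne
  obtain ⟨h1, h2⟩ := L.gen3 _ hker a₀ (hout a₀ ha₀) ((hSx a₀).1 ha₀).2
  have hS : Sx M.toCoxeterSystem hp.isCartan (ch hp) t = L.S :=
    Set.Subset.antisymm hout fun a ha => (hSx a).2 ⟨L.root a ha, h1 a ha⟩
  have hfin : L.S.Finite := (RGD.finite_roots (cs := M.toCoxeterSystem) (h := hp.isCartan)).subset L.root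
  have hθS : ∀ a ∈ L.S, f.θ a ∈ L.S := by
    intro a ha
    obtain ⟨i, hi⟩ := (L.mem a).1 ha
    exact (L.mem _).2 ⟨_, hact i a hi⟩
  obtain ⟨a⟩ := exists_adjForm f L.root L.neg L.reflCl (stab_of_le f.θ.toEquiv hfin hθS)
  have hct : a.c * t = t * a.c := a.c_comm ht (by rw [hS])
  have hct' : a.c⁻¹ * t * a.c = t := by
    rw [mul_assoc, ← hct]
    group
  refine ⟨?_, ⟨⟨a.z, a.n, t, a.w', a.θ, ?_, a.lang, ht, a.rp, a.hθ', a.frob, a.fr, ?_, ?_, ?_, a.conj⟩, ?_, ?_⟩⟩
  · refine cX_inj hp (pow_mem ht 3) (one_mem _) fun i => ?_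
    rw [cX_one, cX_pow hp ht]
    have h3 := h2 (sr i)
    rw [mem_ker, (isMC_cX hp ht).zsmul] at h3
    exact_mod_cast h3
  · rw [AdjForm.z, hy]
    calc f.z * t * f.z⁻¹ = f.z * (t * a.c) * a.c⁻¹ * f.z⁻¹ := by group
      _ = f.z * (a.c * t) * a.c⁻¹ * f.z⁻¹ := by rw [hct]
      _ = _ := by group
  · have h3 := a.fix_tor hα
    rw [hct'] at h3
    exact h3
  · rw [hS]
    exact a.stab
  · rw [hS]
    exact a.pos
  · show Nat.card ↥(Sx M.toCoxeterSystem hp.isCartan (ch hp) t) = 18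
    rw [hS]
    exact L.card
  · intro β hβ h3
    have hβ' : β ∈ L.S := by
      rw [← hS]
      exact hβ
    obtain ⟨i, hi⟩ := (L.mem β).1 hβ'
    have h4 := hact i _ (L.ws a.v_mem i β hi)
    have h5 : a.θ β = β := h3
    rw [a.hθ] at h5
    rw [h5] at h4
    exact L.disj i β hi h4

/-- the useful member of order 3 (helper338) -/
def K1Input (m : MData hp r q K₀) : Prop :=
  ∀ {y : ↥(chevE6.group (KK r))}, m.σ y = y → y ^ 3 = 1 → y ≠ 1 → r ≠ 3 → ∀ f : TorForm m y,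
    Nat.card ↥(Sx M.toCoxeterSystem hp.isCartan (ch hp) f.t) = 18 →
    (¬ ∃ β ∈ Sx M.toCoxeterSystem hp.isCartan (ch hp) f.t, 0 ≤ β ∧ f.θ β = β ∧
      ∀ a ∈ Sx M.toCoxeterSystem hp.isCartan (ch hp) f.t, 0 ≤ a → ¬ IsRoot M.toCoxeterSystem hp.isCartan (β + a)) →
    ∃ M' : Subgroup ↥(chevE6.group (KK r)), UsY m.ι (fixedSubgroup m.σ) r M' y

/-- the case of regular members (helper607) -/
def BInput (m : MData hp r q K₀) : Prop :=
  ∀ (G Ω : Type) [Group G] [Finite G] [Finite Ω] [Nonempty Ω] [MulAction G Ω] (N : Subgroup G) (hE : Env G Ω N)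
    (e : N ≃* K₀) (κ : Type) [Finite κ] (x : κ → G) (y : κ → ↥(chevE6.group (KK r))) (rr : κ → ℕ),
    PF x rr → Cov Ω x → (∀ i, Rep hE e m.ι (x i) (y i)) →
    ∀ (g : ↥(chevE6.group (KK r))) (f : TorForm m g), (∀ i, ∃ k : ℕ, y i = g ^ k) →
    (∀ i, Sx M.toCoxeterSystem hp.isCartan (ch hp) (f.z⁻¹ * y i * f.z) = ∅) →
    ∀ a₀ : Fin 6 → ℤ, ((∀ a, a + f.θ (f.θ (f.θ a)) + f.θ (f.θ (f.θ (f.θ (f.θ (f.θ a))))) = 0) ∨
      (∀ a, a - f.θ (f.θ (f.θ a)) + f.θ (f.θ (f.θ (f.θ (f.θ (f.θ a))))) = 0)) →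
    IsRoot M.toCoxeterSystem hp.isCartan a₀ →
    (∀ B : AddSubgroup (Fin 6 → ℤ), (∀ x ∈ B, f.θ x ∈ B) → a₀ ∈ B → B = ⊤) → False

/-- **The torus with `1 ± θ³ + θ⁶ = 0`.** -/
theorem nineInput_of [Finite K₀] (m : MData hp r q K₀) (hF : H327.RG.Fr m.ι m.σ) (hIH : IHx (Nat.card K₀))
    (hLat : ∀ u : M.Group, Nine hp M.toCoxeterSystem u → Nonempty (NineLat hp M.toCoxeterSystem u))
    (hK1 : K1Input m) (hB : BInput m) : NineInput m := by
  intro G Ω _ _ _ _ _ N hE e κ _ x y rr hx hcov hrr hrep g f hpow h9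
  have hyPF : PF y rr := pf_rep hF hE e hrep hx
  have hyσ : ∀ i, m.σ (y i) = y i := fun i => Rep.fix hF (hrep i)
  obtain ⟨u, hu9, hu⟩ := exists_u m f.w f.hθ h9
  obtain ⟨L⟩ := hLat u hu9
  have ht : ∀ i, f.z⁻¹ * y i * f.z ∈ TT chevE6 (KK r) := by
    intro i
    obtain ⟨k, hk⟩ := hpow i
    have h2 : f.z⁻¹ * y i * f.z = f.t ^ k := by
      have h3 : g ^ k = f.z * f.t ^ k * f.z⁻¹ := (congrArg (fun a => a ^ k) f.eq).trans conj_pow
      rw [hk, h3]
      group
    rw [h2]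
    exact pow_mem f.mem k
  have hα : ∀ i, f.α (f.z⁻¹ * y i * f.z) = f.z⁻¹ * y i * f.z := fun i => (f.fix_iff _).2 (hyσ i)
  by_cases hA : ∃ i, (Sx M.toCoxeterSystem hp.isCartan (ch hp) (f.z⁻¹ * y i * f.z)).Nonempty
  · obtain ⟨i, hi⟩ := hA
    have ht1 : f.z⁻¹ * y i * f.z ≠ 1 := by
      intro h
      apply hyPF.ne i
      calc y i = f.z * (f.z⁻¹ * y i * f.z) * f.z⁻¹ := by group
        _ = 1 := by rw [h]; group
    obtain ⟨h3, f', hc, hnf⟩ := exists_form3 f hu L (ht i) (hα i) ht1 hi (y := y i) (by group)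
    have hy3 : y i ^ 3 = 1 := by
      have e1 : y i = f.z * (f.z⁻¹ * y i * f.z) * f.z⁻¹ := by group
      rw [e1, conj_pow, h3]
      group
    have hr3 : rr i = 3 := by
      have h4 : orderOf (y i) ∣ 3 := orderOf_dvd_of_pow_eq_one hy3
      have h5 : orderOf (y i) ∣ rr i := orderOf_dvd_of_pow_eq_one (hyPF.pow i)
      have h6 : orderOf (y i) ≠ 1 := fun h => hyPF.ne i (orderOf_eq_one_iff.1 h)
      have h7 := (Nat.prime_dvd_prime_iff_eq (by norm_num : (3 : ℕ).Prime) (hyPF.prime i)).1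
      rcases (Nat.dvd_prime (by norm_num : (3 : ℕ).Prime)).1 h4 with h8 | h8
      · exact absurd h8 h6
      · rw [h8] at h5
        exact (h7 h5).symm
    obtain ⟨M', hM'⟩ := hK1 (hyσ i) hy3 (hyPF.ne i) (fun h => hrr i (by rw [hr3, h])) f' hc
      (fun ⟨β, hβ, _, h4, _⟩ => hnf β hβ h4)
    exact dead_of_UsY hF hE e hIH hx hcov hrr hrep hM'
  · have hA' : ∀ i, Sx M.toCoxeterSystem hp.isCartan (ch hp) (f.z⁻¹ * y i * f.z) = ∅ := by
      intro i
      by_contra hcon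
      exact hA ⟨i, Set.nonempty_iff_ne_empty.2 hcon⟩
    obtain ⟨a₀, ha₀, ha₀'⟩ := L.out
    refine hB G Ω N hE e κ x y rr hx hcov hrep g f hpow hA' a₀ h9 ha₀ fun B hBst hB0 => ?_
    refine L.gen B (fun x hx => ?_) a₀ ha₀ ha₀' hB0
    have h1 := hBst x hx
    rcases hu with h | h
    · rwa [h] at h1
    · rw [h] at h1
      have h2 := B.neg_mem h1
      rwa [neg_neg] at h2

end Main

end Cfsg.Agent.H808.R2
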