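import Cfsg.Agent.H169.RG.Toral

/-!
# S3509, box R2 (c): adjusting the toral form to a `θ`-stable set of roots (helper808)

`f : TorForm m s`, `S` a symmetric set of roots with `f.θ a ∈ S ↔ a ∈ S`, closed under its own reflections.
There are `c, m₁ ∈ ⟨X_a : a ∈ S⟩`, `m₁` a representative of `v ∈ W(S)`, with `c⁻¹ f.n σ(c) = f.n σ(m₁) =: n'`,
`z' = f.z c`, `z'⁻¹ σ(z') = n'`, `α' = conj n' ∘ σ` a frame automorphism over `θ' = f.θ ∘ rep v`, which preserves `S` and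
its positive elements. For `τ` in the torus with `f.α τ = τ` the element `c⁻¹ τ c` is fixed by `α'`, and commutes with
every `t'` in the torus with `S ⊆ Sx t'`.
-/

set_option autoImplicit false
set_option linter.unusedSectionVars false

namespace Cfsg.Agent.H808.R2

open CoxeterSystem Cfsg Cfsg.Lie Cfsg.Lie.ChevalleyDatum
open Cfsg.Agent.ChevalleyStructure Cfsg.Agent.ChevalleyStructure.Elts Cfsg.Agent.ChevalleyStructure.CoxeterGeom
  Cfsg.Agent.ChevalleyStructure.CoxeterGeomTypes Cfsg.Agent.ChevalleyStructure.NPerm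
open Cfsg.Agent.Tits.Roots Cfsg.Agent.Tits.Core Cfsg.Agent.Nodes Cfsg.Agent.Nodes.Reps Cfsg.Agent.Nodes.BNOf
  Cfsg.Agent.Nodes.RGDChev Cfsg.Agent.Nodes.Bruhat Cfsg.Agent.Nodes.NormalForm Cfsg.Agent.Nodes.Coroot
open Cfsg.Agent.Nodes.SubComb
open Cfsg.Agent.KFacts.RgdField Cfsg.Agent.KFacts.RgdChevCoord
open Cfsg.Agent.BpExc Cfsg.Agent.BpExc.TorCent Cfsg.Agent.BpExc.TorChev Cfsg.Agent.BpExc.Tow
  Cfsg.Agent.BpExc.TowChev Cfsg.Agent.BpExc.Fr Cfsg.Agent.BpExc.Pair Cfsg.Agent.BpExc.LangFr Cfsg.Agent.GpExc.Field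
  Cfsg.Agent.BpExc.NInst Cfsg.Agent.BpExc.NChev
open Cfsg.Agent.H469.Exc Cfsg.Agent.H316.U6 Cfsg.Agent.H169.RG

section WS

variable {I W : Type*} [Fintype I] [DecidableEq I] [Group W] {M : CoxeterMatrix I}
  (cs : CoxeterSystem M W) {A : I → I → ℤ} (h : IsCartan M A)

/-- the group generated by the reflections of the roots in `S` -/
def WS (S : Set (I → ℤ)) : Subgroup W := Subgroup.closure {x | ∃ w i, x = rfl' cs w i ∧ rep cs h w (sr i) ∈ S}

/-- closed under its own reflections -/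
def ReflCl (S : Set (I → ℤ)) : Prop := ∀ w i, rep cs h w (sr i) ∈ S → ∀ a ∈ S, rep cs h (rfl' cs w i) a ∈ S

variable {cs h}

theorem WS_mem {S : Set (I → ℤ)} (hr : ReflCl cs h S) {v : W} (hv : v ∈ WS cs h S) (a : I → ℤ) :
    rep cs h v a ∈ S ↔ a ∈ S := by
  have key : ∀ v ∈ WS cs h S, ∀ a ∈ S, rep cs h v a ∈ S := by
    intro v hv
    induction hv using Subgroup.closure_induction_right with
    | one =>
      intro a ha
      rwa [map_one, Module.End.one_apply]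
    | mul_right x y _ hy ih =>
      intro a ha
      obtain ⟨w, i, rfl, hw⟩ := hy
      rw [rep_mul_apply]
      exact ih _ (hr w i hw a ha)
    | mul_inv_cancel x y _ hy ih =>
      intro a ha
      obtain ⟨w, i, rfl, hw⟩ := hy
      have e : (rfl' cs w i)⁻¹ = rfl' cs w i := by
        rw [rfl', mul_inv_rev, mul_inv_rev, inv_inv, cs.inv_simple, mul_assoc]
      rw [e, rep_mul_apply]
      exact ih _ (hr w i hw a ha)
  refine ⟨fun h1 => ?_, key v hv a⟩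
  have h2 := key v⁻¹ (inv_mem hv) _ h1
  rwa [← rep_mul_apply, inv_mul_cancel, map_one, Module.End.one_apply] at h2

/-- the roots in a subgroup of the lattice are closed under their reflections -/
theorem reflCl_of_sub [Finite W] (B : AddSubgroup (I → ℤ)) : ReflCl cs h {a | IsRoot cs h a ∧ a ∈ B} := by
  intro w i hw a ha
  refine ⟨ha.1.act _, ?_⟩
  rw [rep_rfl'_eq]
  exact B.sub_mem ha.2 (B.zsmul_mem hw.2 _)

/-- the kernel of a linear map is closed under its reflections -/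
theorem reflCl_of_lam [Finite W] (lam : (I → ℤ) →+ ℤ) : ReflCl cs h {a | IsRoot cs h a ∧ lam a = 0} :=
  reflCl_of_sub lam.ker

/-- the roots trivial on an element of the torus are closed under their reflections -/
theorem reflCl_Sx [Finite W] {Y F : Type*} [Group Y] [Field F] {T : Subgroup Y} {χ : (I → ℤ) → Y → F}
    (hA : ChAdd cs h T χ) {x : Y} (hx : x ∈ T) : ReflCl cs h (Sx cs h χ x) := by
  obtain ⟨φ, h0, hadd, hφ⟩ := hA x hx
  let B : AddSubgroup (I → ℤ) :=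
    { carrier := {a | φ a = 1}
      zero_mem' := h0
      add_mem' := fun {a b} ha hb => by
        show φ (a + b) = 1
        rw [hadd, show φ a = 1 from ha, show φ b = 1 from hb, one_mul]
      neg_mem' := fun {a} ha => by
        have h1 := hadd a (-a)
        rw [add_neg_cancel, h0, show φ a = 1 from ha, one_mul] at h1
        exact h1.symm }
  have e : Sx cs h χ x = {a | IsRoot cs h a ∧ a ∈ B} := by
    ext a
    constructor
    · intro ha
      exact ⟨ha.1, by show φ a = 1; rw [← hφ a ha.1]; exact ha.2⟩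
    · intro ha
      exact ⟨ha.1, by rw [hφ a ha.1]; exact ha.2⟩
  rw [e]
  exact reflCl_of_sub B

end WS

section Red

variable {I W Y : Type*} [Fintype I] [DecidableEq I] [Group W] [Group Y] {M : CoxeterMatrix I}
  {cs : CoxeterSystem M W} {A : I → I → ℤ} {h : IsCartan M A} {p : ℕ}
  {J : Type*} [Preorder J] {T : J → Subgroup Y} {n : I → Y} {X : J → (I → ℤ) → Subgroup Y}
  (H : Tow cs h p T n X)

include H

/-- the reflections of the roots of `S` are represented in `⟨X_a : a ∈ S⟩` -/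
theorem exists_rfl_Sup [Finite W] {S : Set (I → ℤ)} (hS : ∀ a ∈ S, IsRoot cs h a) (hneg : ∀ a ∈ S, -a ∈ S)
    {a : I → ℤ} (ha : a ∈ S) : ∃ w i, a = rep cs h w (sr i) ∧
      ∃ m ∈ RGD.Sup (XL X) S, Rp cs H.nsys (rfl' cs w i) m := by
  obtain ⟨w, i, hw⟩ := hS a ha
  have har := hS a ha
  refine ⟨w, i, hw, ?_⟩
  obtain ⟨j⟩ := H.ne
  obtain ⟨m, hm, hm'⟩ := TorCent.exists_rfl (H.rgd j) w i
  rw [← hw] at hm
  have h3 : (X j a ⊔ X j (-a)) ≤ RGD.Sup (XL X) S :=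
    sup_le ((le_XL j a).trans (RGD.le_Sup ha)) ((le_XL j _).trans (RGD.le_Sup (hneg a ha)))
  have hTn : T j ≤ Subgroup.normalizer ((X j a ⊔ X j (-a) : Subgroup Y) : Set Y) := by
    intro s hs
    rw [mem_normalizer_iff_cj, cj_sup, (H.rgd j).tor a har s hs, (H.rgd j).tor (-a) har.neg s hs]
  have h4 : m ∈ ((T j ⊔ (X j a ⊔ X j (-a)) : Subgroup Y) : Set Y) := hm
  rw [Subgroup.coe_mul_of_left_le_normalizer_right _ _ hTn, Set.mem_mul] at h4
  obtain ⟨s, hs, u, hu, e⟩ := h4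
  refine ⟨u, h3 hu, H.rp_up (j := j) ?_⟩
  have h5 := (rp_of_mem (cs := cs) (hN := (H.rgd j).nsys) (inv_mem hs)).mul hm'
  rw [one_mul] at h5
  have h6 : s⁻¹ * m = u := by rw [← e]; group
  rwa [h6] at h5

/-- the adjustment of the positive system of `S` -/
theorem exists_adj [Finite W] {S : Set (I → ℤ)} (hS : ∀ a ∈ S, IsRoot cs h a) (hneg : ∀ a ∈ S, -a ∈ S)
    (g : (I → ℤ) ≃+ (I → ℤ)) (hg : ∀ a, IsRoot cs h a → IsRoot cs h (g a)) :
    ∃ v ∈ WS cs h S, ∃ m ∈ RGD.Sup (XL X) S, Rp cs H.nsys v m ∧ ∀ a ∈ S, 0 ≤ a → 0 ≤ g (rep cs h v a) := by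
  let V : Subgroup W :=
    { carrier := {v | v ∈ WS cs h S ∧ ∃ m ∈ RGD.Sup (XL X) S, Rp cs H.nsys v m}
      one_mem' := ⟨one_mem _, 1, one_mem _, rp_one⟩
      mul_mem' := by
        rintro a b ⟨ha, m, hm, hm'⟩ ⟨hb, m', hm1, hm2⟩
        exact ⟨mul_mem ha hb, m * m', mul_mem hm hm1, hm'.mul hm2⟩
      inv_mem' := by
        rintro a ⟨ha, m, hm, hm'⟩
        exact ⟨inv_mem ha, m⁻¹, inv_mem hm, hm'.inv⟩ }
  obtain ⟨v, ⟨h1, m, h2, h3⟩, h4⟩ := Cfsg.Agent.BpExc.Fr.exists_adjust (cs := cs) (h := h) S V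
    (fun a ha => by
      obtain ⟨w, i, e, m, hm, hm'⟩ := exists_rfl_Sup H hS hneg ha
      exact ⟨w, i, e, Subgroup.subset_closure ⟨w, i, rfl, by rw [← e]; exact ha⟩, m, hm, hm'⟩) g hg
  exact ⟨v, h1, m, h2, h3, h4⟩

end Red

universe u v

section Chev

variable {D : ChevalleyDatum} {l : ℕ} {M : CoxeterMatrix (Fin l)} {hp : IsType D l M} {r q : ℕ} [hr : Fact r.Prime]
  {K₀ : Type v} [Group K₀] {m : MData hp r q K₀} {s : ↥(D.group (KK r))}

/-- **R2 (c)**: the adjusted form. -/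
structure AdjForm (f : TorForm m s) (S : Set (Fin l → ℤ)) where
  c : ↥(D.group (KK r))
  m₁ : ↥(D.group (KK r))
  v : M.Group
  w' : M.Group
  θ : (Fin l → ℤ) ≃+ (Fin l → ℤ)
  c_mem : c ∈ RGD.Sup (XX D l (KK r)) S
  m₁_mem : m₁ ∈ RGD.Sup (XX D l (KK r)) S
  v_mem : v ∈ WS M.toCoxeterSystem hp.isCartan S
  rp_m₁ : Rp M.toCoxeterSystem (nsysTT hp M.toCoxeterSystem (locFin r) r) v m₁
  lang_c : c⁻¹ * f.n * m.σ c = f.n * m.σ m₁
  lang : (f.z * c)⁻¹ * m.σ (f.z * c) = f.n * m.σ m₁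
  rp : Rp M.toCoxeterSystem (nsysTT hp M.toCoxeterSystem (locFin r) r) w' (f.n * m.σ m₁)
  hθ : ∀ x, θ x = f.θ (rep M.toCoxeterSystem hp.isCartan v x)
  hθ' : ∀ x, θ x = rep M.toCoxeterSystem hp.isCartan w' (m.g x)
  frob : IsFrob r m.e (MulAut.conj (f.n * m.σ m₁) * m.σ)
  fr : Fr M.toCoxeterSystem hp.isCartan (TT D (KK r)) (XX D l (KK r)) (MulAut.conj (f.n * m.σ m₁) * m.σ) θ
  stab : ∀ a, θ a ∈ S ↔ a ∈ S
  pos : ∀ a ∈ S, 0 ≤ a → 0 ≤ θ a
  conj : ∀ y, (MulAut.conj (f.n * m.σ m₁) * m.σ) ((f.z * c)⁻¹ * y * (f.z * c)) = (f.z * c)⁻¹ * m.σ y * (f.z * c)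
  conj_c : ∀ y, (MulAut.conj (f.n * m.σ m₁) * m.σ) (c⁻¹ * y * c) = c⁻¹ * f.α y * c

/-- **R2 (c).** -/
theorem exists_adjForm (f : TorForm m s) {S : Set (Fin l → ℤ)}
    (hS : ∀ a ∈ S, IsRoot M.toCoxeterSystem hp.isCartan a) (hneg : ∀ a ∈ S, -a ∈ S)
    (hcl : ReflCl M.toCoxeterSystem hp.isCartan S) (hθ : ∀ a, f.θ a ∈ S ↔ a ∈ S) : Nonempty (AdjForm f S) := by
  have := finite_W hp M.toCoxeterSystem
  have hTL := TL_eq (k := KK r) hp (locFin r)
  have hXL := XL_eq (k := KK r) hp (locFin r)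
  have H := tow (k := KK r) hp M.toCoxeterSystem (locFin r) r
  have hG := GG_eq_top (k := KK r) hp M.toCoxeterSystem (locFin r)
  have key : ∀ (T : Subgroup ↥(D.group (KK r))) (h1 : NSys M T (nc hp (KK r))) (h2 : T = TT D (KK r)) (w : M.Group)
      (y : ↥(D.group (KK r))), Rp M.toCoxeterSystem h1 w y →
      Rp M.toCoxeterSystem (nsysTT hp M.toCoxeterSystem (locFin r) r) w y := by
    intro T h1 h2 w y h3
    subst h2
    exact h3
  obtain ⟨v, hv, m₁, hm₁, hrp, hpos⟩ := exists_adj H hS hneg f.θ (fun a ha => (f.fr.root a).2 ha)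
  rw [hXL] at hm₁
  -- the new frame automorphism
  have Fv := Fr.conj H hrp
  rw [hTL, hXL] at Fv
  have F1 := f.fr.mul Fv
  have e2 : MulAut.conj f.n * m.σ * MulAut.conj m₁ = MulAut.conj (f.n * m.σ m₁) * m.σ := by
    ext1 y
    show f.n * m.σ (m₁ * y * m₁⁻¹) * f.n⁻¹ = f.n * m.σ m₁ * m.σ y * (f.n * m.σ m₁)⁻¹
    rw [map_mul, map_mul, map_inv]; group
  rw [e2] at F1
  have hθ' : ∀ x, ((repAut M.toCoxeterSystem hp.isCartan v).trans f.θ) x =
      f.θ (rep M.toCoxeterSystem hp.isCartan v x) := fun x => rfl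
  have hstab : ∀ a, ((repAut M.toCoxeterSystem hp.isCartan v).trans f.θ) a ∈ S ↔ a ∈ S := fun a => by
    rw [hθ', hθ, WS_mem hcl hv]
  -- Lang in the group of `S`
  have hα : f.α m₁ ∈ RGD.Sup (XX D l (KK r)) S := (f.fr.mem_Sup hS hθ m₁).2 hm₁
  obtain ⟨c, hc, ec⟩ := lang_fr hp M.toCoxeterSystem m.he f.frob f.fr hS (fun a ha => (hθ a).2 ha) hα
  have ec' : f.n * m.σ m₁ * f.n⁻¹ = c⁻¹ * (f.n * m.σ c * f.n⁻¹) := ec
  have hlc : c⁻¹ * f.n * m.σ c = f.n * m.σ m₁ := by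
    have h1 : c⁻¹ * f.n * m.σ c = c⁻¹ * (f.n * m.σ c * f.n⁻¹) * f.n := by group
    rw [h1, ← ec']; group
  have hl : (f.z * c)⁻¹ * m.σ (f.z * c) = f.n * m.σ m₁ := by
    rw [← hlc, ← f.lang, map_mul]; group
  -- the representative
  have Fn := F1.mul m.fr.inv
  have e1 : MulAut.conj (f.n * m.σ m₁) * m.σ * m.σ⁻¹ = MulAut.conj (f.n * m.σ m₁) := by group
  rw [e1] at Fn
  have hsep : ∀ a, IsRoot M.toCoxeterSystem hp.isCartan a → ∃ s ∈ TL (Tj hp (k := KK r)), ∀ u ∈ XL (Xj hp (k := KK r)) a,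
      u * s = s * u → u = 1 := by
    rw [hTL, hXL]
    exact fun a ha => sep hp M.toCoxeterSystem (locFin r) r ha
  obtain ⟨w', hw⟩ := rp_of_normalizer H hG hsep (y := f.n * m.σ m₁) (fun x => by
    rw [hTL]
    exact Fn.tor x)
  have Fw : Fr M.toCoxeterSystem hp.isCartan (TT D (KK r)) (XX D l (KK r)) (MulAut.conj (f.n * m.σ m₁))
      (repAut M.toCoxeterSystem hp.isCartan w') := by
    have h1 := Fr.conj H hw
    rwa [hTL, hXL] at h1
  have hθ2 := fr_unique hp M.toCoxeterSystem (locFin r) r F1 (Fw.mul m.fr)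
  refine ⟨⟨c, m₁, v, w', _, hc, hm₁, hv, key _ _ hTL _ _ hrp, hlc, hl, key _ _ hTL _ _ hw, hθ', ?_,
    m.frob.conj_mul _, F1, hstab, hpos, ?_, ?_⟩⟩
  · intro x
    rw [hθ2]
    rfl
  · intro y
    rw [MulAut.mul_apply, MulAut.conj_apply, ← hl, map_mul m.σ ((f.z * c)⁻¹ * y), map_mul m.σ (f.z * c)⁻¹, map_inv]
    group
  · intro y
    rw [MulAut.mul_apply, MulAut.conj_apply, ← hlc, map_mul m.σ (c⁻¹ * y), map_mul m.σ c⁻¹, map_inv]
    show _ = c⁻¹ * (f.n * m.σ y * f.n⁻¹) * c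
    group

variable {f : TorForm m s} {S : Set (Fin l → ℤ)}

/-- the representative `n'` of the Weyl group part -/
noncomputable def AdjForm.n (a : AdjForm f S) : ↥(D.group (KK r)) := f.n * m.σ a.m₁

/-- the conjugating element `z'` -/
noncomputable def AdjForm.z (a : AdjForm f S) : ↥(D.group (KK r)) := f.z * a.c

/-- the automorphism `α'` -/
noncomputable def AdjForm.α (a : AdjForm f S) : MulAut ↥(D.group (KK r)) := MulAut.conj (f.n * m.σ a.m₁) * m.σ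

/-- `y ↦ z'⁻¹ y z'` maps `Y^σ` to `Y^α'` -/
theorem AdjForm.fix_iff (a : AdjForm f S) (y : ↥(D.group (KK r))) :
    a.α (a.z⁻¹ * y * a.z) = a.z⁻¹ * y * a.z ↔ m.σ y = y := by
  rw [AdjForm.α, AdjForm.z, a.conj]
  constructor
  · intro h
    exact mul_left_cancel (mul_right_cancel h)
  · intro h
    rw [h]

/-- `y ↦ z' y z'⁻¹` maps `Y^α'` to `Y^σ` -/
theorem AdjForm.fix_iff' (a : AdjForm f S) (y : ↥(D.group (KK r))) :
    m.σ (a.z * y * a.z⁻¹) = a.z * y * a.z⁻¹ ↔ a.α y = y := by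
  rw [← a.fix_iff]
  have e : a.z⁻¹ * (a.z * y * a.z⁻¹) * a.z = y := by group
  rw [e]

/-- the elements `c⁻¹ τ c` are fixed by `α'` -/
theorem AdjForm.fix_tor (a : AdjForm f S) {τ : ↥(D.group (KK r))} (h : f.α τ = τ) :
    a.α (a.c⁻¹ * τ * a.c) = a.c⁻¹ * τ * a.c := by
  rw [AdjForm.α, a.conj_c, h]

/-- `z' (c⁻¹ τ c) z'⁻¹ = z τ z⁻¹` -/
theorem AdjForm.conj_tor (a : AdjForm f S) (τ : ↥(D.group (KK r))) :
    a.z * (a.c⁻¹ * τ * a.c) * a.z⁻¹ = f.z * τ * f.z⁻¹ := by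
  rw [AdjForm.z]
  group

/-- `c` commutes with `t'` in the torus with `S ⊆ Sx t'` -/
theorem AdjForm.c_comm (a : AdjForm f S) {t' : ↥(D.group (KK r))} (ht : t' ∈ TT D (KK r))
    (hS : S ⊆ Sx M.toCoxeterSystem hp.isCartan (ch hp) t') : a.c * t' = t' * a.c := by
  have C := coordsL (k := KK r) hp M.toCoxeterSystem (locFin r) r
  have h1 := MM_le_centralizer C ht (RGD.Sup_le (fun z hz => RGD.le_Sup (hS hz)) a.c_mem)
  rwa [Subgroup.mem_centralizer_singleton_iff] at h1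

/-- the elements `c⁻¹ τ c` commute with `t'` -/
theorem AdjForm.tor_comm (a : AdjForm f S) {t' τ : ↥(D.group (KK r))} (ht : t' ∈ TT D (KK r))
    (hS : S ⊆ Sx M.toCoxeterSystem hp.isCartan (ch hp) t') (hτ : τ * t' = t' * τ) :
    (a.c⁻¹ * τ * a.c) * t' = t' * (a.c⁻¹ * τ * a.c) := by
  have h1 := a.c_comm ht hS
  have h2 : a.c⁻¹ * t' = t' * a.c⁻¹ := by
    calc a.c⁻¹ * t' = a.c⁻¹ * (t' * a.c) * a.c⁻¹ := by group
      _ = a.c⁻¹ * (a.c * t') * a.c⁻¹ := by rw [h1]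
      _ = t' * a.c⁻¹ := by group
  calc (a.c⁻¹ * τ * a.c) * t' = a.c⁻¹ * τ * (a.c * t') := by group
    _ = a.c⁻¹ * (τ * t') * a.c := by rw [h1]; group
    _ = (a.c⁻¹ * t') * τ * a.c := by rw [hτ]; group
    _ = _ := by rw [h2]; group

end Chev

end Cfsg.Agent.H808.R2
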