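import Cfsg.Agent.H808.MD.Min

/-!
# S3509, R2: the minimal degree of `E₆(q)`, `²E₆(q)` in the form used for the torus with `1 ± θ³ + θ⁶ = 0` (helper808)
-/

set_option autoImplicit false
set_option linter.unusedSectionVars false
open Cfsg

namespace Cfsg.Agent.H808.R2

open Cfsg.Lie Cfsg.Lie.ChevalleyDatum

/-- the minimal degree of a permutation representation is at least `q⁵ (q⁶ - q³ + 1)` -/
def MinQ (K₀ : Type) [Group K₀] (q : ℕ) : Prop :=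
  ∃ d, H514.DP.MinDeg K₀ d ∧ q ^ 5 * (q ^ 6 - q ^ 3 + 1) ≤ d

theorem minQ_e6 (F : Type) [Field F] [Fintype F] : MinQ ↥(chevE6.group F) (Fintype.card F) := by
  refine ⟨_, H808.MD.e6 F, ?_⟩
  set q := Fintype.card F
  calc q ^ 5 * (q ^ 6 - q ^ 3 + 1) = (q * q ^ 4) * (q ^ 6 - q ^ 3 + 1) := by ring
    _ ≤ (q * (q ^ 4 + 1)) * (q ^ 6 + q ^ 3 + 1) := by
        refine Nat.mul_le_mul (Nat.mul_le_mul_left _ (Nat.le_succ _)) ?_
        omega
    _ = _ := by ring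

theorem minQ_te6 (K : Type) [Field K] [Fintype K] (q : ℕ) (hq : IsPrimePow q) (hK : Fintype.card K = q ^ 2) :
    MinQ ↥(twistedE6 K q) q := by
  refine ⟨_, H808.MD.te6 K q hq hK, ?_⟩
  calc q ^ 5 * (q ^ 6 - q ^ 3 + 1) = (q * q ^ 4) * (q ^ 6 - q ^ 3 + 1) := by ring
    _ ≤ (q * (q ^ 4 + 1)) * (q ^ 6 - q ^ 3 + 1) := Nat.mul_le_mul_right _ (Nat.mul_le_mul_left _ (Nat.le_succ _))
    _ = _ := by ring

end Cfsg.Agent.H808.R2
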