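import Cfsg.Agent.H808.R2.NineA
import Cfsg.Agent.H808.R2.NineD
import Cfsg.Agent.H56.RG.NineLat
import Cfsg.Agent.H607.R2.NineB

/-!
# S3509, R2: `NineInput` from the useful member of order 3 (helper808)
-/

set_option autoImplicit false
set_option linter.unusedSectionVars false
open Cfsg

namespace Cfsg.Agent.H808.R2

open CoxeterSystem Cfsg Cfsg.Lie Cfsg.Lie.ChevalleyDatum
open Cfsg.Agent.ChevalleyStructure Cfsg.Agent.ChevalleyStructure.Elts Cfsg.Agent.ChevalleyStructure.CoxeterGeom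
  Cfsg.Agent.ChevalleyStructure.CoxeterGeomTypes Cfsg.Agent.ChevalleyStructure.NPerm
open Cfsg.Agent.Tits.Roots Cfsg.Agent.Tits.Core Cfsg.Agent.Nodes Cfsg.Agent.Nodes.Reps Cfsg.Agent.Nodes.RGDChev
open Cfsg.Agent.H469.Exc Cfsg.Agent.H316.U6 Cfsg.Agent.H169.RG
open Cfsg.Agent.H873.RG Cfsg.Agent.H607.R2

variable {M : CoxeterMatrix (Fin 6)} {hp : IsType chevE6 6 M} {r q : ℕ} [hr : Fact r.Prime] {K₀ : Type} [Group K₀]

/-- **`NineInput` from `K1Input`.** -/
theorem nineInput_k1 [Finite K₀] (m : MData hp r q K₀) (hF : H327.RG.Fr m.ι m.σ) (hIH : IHx (Nat.card K₀))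
    (hQ : MinQ K₀ q) (hK1 : K1Input m) : NineInput m := by
  obtain ⟨d, hd, hdq⟩ := hQ
  exact nineInput_of m hF hIH (fun u hu => H56.RG.Nine.exists_nineLat hp _ hu) hK1 (bInput m hF hd hdq)

end Cfsg.Agent.H808.R2
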